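import Mathlib

/-!
# Facts about `SL(2, 5)` used for finite subgroups of division rings
-/

namespace Cfsg.Agent.H2.Amitsur

open Matrix

/-- `SL(2, 5)`. -/
abbrev SL25 := Matrix.SpecialLinearGroup (Fin 2) (ZMod 5)

/-- Upper unitriangular element. -/
def upp (a : ZMod 5) : SL25 := ⟨!![1, a; 0, 1], by simp [Matrix.det_fin_two_of]⟩

/-- Lower unitriangular element. -/
def low (a : ZMod 5) : SL25 := ⟨!![1, 0; a, 1], by simp [Matrix.det_fin_two_of]⟩

/-- A conjugate of `upp c`. -/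
def unip (c e d : ZMod 5) : SL25 :=
  ⟨!![1 - c * e * d, c * e * e; -(c * d * d), 1 + c * e * d], by
    rw [Matrix.det_fin_two_of]; ring⟩

@[simp] theorem upp_val (a : ZMod 5) : (upp a).1 = !![1, a; 0, 1] := rfl

@[simp] theorem low_val (a : ZMod 5) : (low a).1 = !![1, 0; a, 1] := rfl

@[simp] theorem unip_val (c e d : ZMod 5) :
    (unip c e d).1 = !![1 - c * e * d, c * e * e; -(c * d * d), 1 + c * e * d] := rfl

/-- An element of order four. -/
def qi : SL25 := ⟨!![0, 4; 1, 0], by decide⟩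

/-- An element of order four anticommuting with `qi`. -/
def qj : SL25 := ⟨!![2, 0; 0, 3], by decide⟩

theorem qi_sq : qi * qi = -1 := by decide

theorem qj_sq : qj * qj = -1 := by decide

theorem qi_qj : qi * qj = -1 * (qj * qi) := by decide

theorem neg_one_ne_one : (-1 : SL25) ≠ 1 := by decide

theorem neg_one_mul_self : (-1 : SL25) * -1 = 1 := by decide

theorem upp_one_ne_one : upp 1 ≠ 1 := by decide

theorem upp_pow : ∀ a : ZMod 5, upp a = upp 1 ^ a.val := by decide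

theorem low_pow : ∀ a : ZMod 5, low a = low 4 ^ (4 * a).val := by decide

theorem unip_spec : ∀ e d : ZMod 5,
    ((upp 1 * unip 1 e d) ^ 6 = 1 → upp 1 * unip 1 e d ≠ 1 →
      ∃ m, upp m * unip 1 e d = low 4 * upp m) ∧
    ((upp 2 * unip 2 e d) ^ 6 = 1 → upp 2 * unip 2 e d ≠ 1 →
      ∃ m, upp m * unip 2 e d = low 2 * upp m) := by decide

instance : Fact (Nat.Prime 5) := ⟨by norm_num⟩

/-- The images of `upp c` under conjugation are the elements `unip c e d`. -/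
theorem mul_upp (W : SL25) (c : ZMod 5) :
    W * upp c = unip c (W.1 0 0) (W.1 1 0) * W := by
  have hdet : W.1 0 0 * W.1 1 1 - W.1 0 1 * W.1 1 0 = 1 := by
    rw [← Matrix.det_fin_two]; exact W.2
  ext i j
  fin_cases i <;> fin_cases j <;>
    simp [Matrix.mul_apply, Fin.sum_univ_two] <;>
    first
      | ring1
      | linear_combination (-(c * W.1 0 0)) * hdet
      | linear_combination (-(c * W.1 1 0)) * hdet
      | linear_combination (c * W.1 0 0) * hdet
      | linear_combination (c * W.1 1 0) * hdet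

/-- `upp` and `low` generate. -/
theorem exists_factor (x : SL25) :
    ∃ a b g f : ZMod 5, x = low f * (upp a * low b * upp g) := by
  have key : ∀ y : SL25, y.1 1 0 ≠ 0 → ∃ a g, y = upp a * low (y.1 1 0) * upp g := by
    intro y h
    have hdet : y.1 0 0 * y.1 1 1 - y.1 0 1 * y.1 1 0 = 1 := by
      rw [← Matrix.det_fin_two]; exact y.2
    refine ⟨(y.1 0 0 - 1) / y.1 1 0, (y.1 1 1 - 1) / y.1 1 0, ?_⟩
    ext i j
    fin_cases i <;> fin_cases j <;>
      simp [Matrix.mul_apply, Fin.sum_univ_two] <;>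
      field_simp <;> first | ring1 | linear_combination hdet | linear_combination -hdet
  by_cases h : x.1 1 0 = 0
  · have hdet : x.1 0 0 * x.1 1 1 - x.1 0 1 * x.1 1 0 = 1 := by
      rw [← Matrix.det_fin_two]; exact x.2
    have h00 : (low 1 * x).1 1 0 ≠ 0 := by
      simp [Matrix.mul_apply, Fin.sum_univ_two, h]
      intro e
      rw [e, h] at hdet
      simp at hdet
    obtain ⟨a, g, e⟩ := key _ h00
    refine ⟨a, (low 1 * x).1 1 0, g, 4, ?_⟩
    have h4 : low 4 * low 1 = 1 := by decide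
    rw [← e, ← mul_assoc, h4, one_mul]
  · obtain ⟨a, g, e⟩ := key _ h
    have h0 : low 0 = 1 := by decide
    exact ⟨a, x.1 1 0, g, 0, by rw [h0, one_mul, ← e]⟩

/-- The centre. -/
theorem eq_one_or_neg_one {x : SL25} (hu : x * upp 1 = upp 1 * x) (hl : x * low 4 = low 4 * x) :
    x = 1 ∨ x = -1 := by
  have hdet : x.1 0 0 * x.1 1 1 - x.1 0 1 * x.1 1 0 = 1 := by
    rw [← Matrix.det_fin_two]; exact x.2
  have e00 := congrFun (congrFun (congrArg Subtype.val hu) 0) 0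
  have e01 := congrFun (congrFun (congrArg Subtype.val hu) 0) 1
  have f00 := congrFun (congrFun (congrArg Subtype.val hl) 0) 0
  simp [Matrix.mul_apply, Fin.sum_univ_two] at e00 e01 f00
  have h4 : (4 : ZMod 5) ≠ 0 := by decide
  have h01 : x.1 0 1 = 0 := f00.resolve_right h4
  have h10 : x.1 1 0 = 0 := e00
  have h11 : x.1 1 1 = x.1 0 0 := by linear_combination -e01
  rw [h01, h10, h11] at hdet
  have hsq : x.1 0 0 * x.1 0 0 = 1 := by linear_combination hdet
  rcases mul_self_eq_one_iff.1 hsq with h | h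
  · left
    ext i j
    fin_cases i <;> fin_cases j <;> simp [h, h01, h10, h11]
  · right
    ext i j
    fin_cases i <;> fin_cases j <;> simp [h, h01, h10, h11]

/-- Multiplication of `2 × 2` matrices as quadruples. -/
private def quadMul (x y : ZMod 5 × ZMod 5 × ZMod 5 × ZMod 5) : ZMod 5 × ZMod 5 × ZMod 5 × ZMod 5 :=
  (x.1 * y.1 + x.2.1 * y.2.2.1, x.1 * y.2.1 + x.2.1 * y.2.2.2,
    x.2.2.1 * y.1 + x.2.2.2 * y.2.2.1, x.2.2.1 * y.2.1 + x.2.2.2 * y.2.2.2)

private def pow5 (M : ZMod 5 × ZMod 5 × ZMod 5 × ZMod 5) :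
    ZMod 5 × ZMod 5 × ZMod 5 × ZMod 5 := quadMul M (quadMul M (quadMul M (quadMul M M)))

set_option synthInstance.maxSize 2048 in
set_option synthInstance.maxHeartbeats 400000 in
set_option maxHeartbeats 4000000 in
private theorem order_five_quad : ∀ a b c d : ZMod 5, a * d - b * c = 1 →
    pow5 (a, b, c, d) = (1, 0, 0, 1) →
    (a, b, c, d) = ((1, 0, 0, 1) : ZMod 5 × ZMod 5 × ZMod 5 × ZMod 5) ∨
      ∃ k, (k = 1 ∨ k = 2) ∧ ∃ e f, (e ≠ 0 ∨ f ≠ 0) ∧
        (a, b, c, d) = (1 - k * e * f, k * e * e, -(k * f * f), 1 + k * e * f) := by decide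

/-- Elements of order five are conjugate to `upp 1` or `upp 2`. -/
theorem order_five {Y : SL25} (h : Y ^ 5 = 1) (h1 : Y ≠ 1) :
    ∃ (c : ZMod 5) (g : SL25), (c = 1 ∨ c = 2) ∧ g * upp c = Y * g := by
  let q : SL25 → ZMod 5 × ZMod 5 × ZMod 5 × ZMod 5 :=
    fun A => (A.1 0 0, A.1 0 1, A.1 1 0, A.1 1 1)
  have hq : ∀ A B, q (A * B) = quadMul (q A) (q B) := fun A B => by
    simp [q, quadMul, Matrix.mul_apply, Fin.sum_univ_two]
  have hinj : Function.Injective q := fun A B e => by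
    simp only [q, Prod.mk.injEq] at e
    obtain ⟨h1, h2, h3, h4⟩ := e
    ext i j
    fin_cases i <;> fin_cases j <;> assumption
  have hq1 : q 1 = (1, 0, 0, 1) := by simp [q]
  have hdet : Y.1 0 0 * Y.1 1 1 - Y.1 0 1 * Y.1 1 0 = 1 := by
    rw [← Matrix.det_fin_two]; exact Y.2
  have h5 : q (Y * (Y * (Y * (Y * Y)))) = (1, 0, 0, 1) := by
    rw [← hq1, ← h]; congr 1
    simp only [pow_succ, pow_zero, one_mul, mul_assoc]
  simp only [hq] at h5
  rcases order_five_quad _ _ _ _ hdet h5 with e | ⟨k, hk, e, f, hef, he⟩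
  · exact absurd (hinj (hq1.symm ▸ e)) h1
  · obtain ⟨g, hg⟩ : ∃ g : SL25, g.1 0 0 = e ∧ g.1 1 0 = f := by
      by_cases he0 : e = 0
      · have hf : f ≠ 0 := hef.resolve_left (fun h => h he0)
        exact ⟨⟨!![e, -f⁻¹; f, 0], by simp [Matrix.det_fin_two_of, inv_mul_cancel₀ hf]⟩, rfl, rfl⟩
      · exact ⟨⟨!![e, 0; f, e⁻¹], by simp [Matrix.det_fin_two_of, mul_inv_cancel₀ he0]⟩, rfl, rfl⟩
    refine ⟨k, g, hk, ?_⟩
    rw [mul_upp, hg.1, hg.2]
    congr 1
    refine (hinj ?_).symm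
    simpa [q] using he

theorem upp_one_pow_five : upp 1 ^ 5 = 1 := by decide

theorem upp_mul_low_pow_six : (upp 1 * low 4) ^ 6 = 1 ∧ upp 1 * low 4 ≠ 1 := by decide

theorem qi_mul_upp : qi * upp 1 = low 4 * qi ∧ qi * low 4 = upp 1 * qi := by decide

theorem upp_mul_upp : ∀ m c : ZMod 5, upp m * upp c = upp c * upp m := by decide

theorem pow_facts : low 2 ^ 3 = low 1 ∧ low 4 ^ 3 = low 2 ∧ low 2 ^ 3 * low 4 = 1 ∧
    upp 2 ^ 3 = upp 1 ∧ upp 2 ^ 2 = upp 4 ∧ upp 1 ^ 2 = upp 2 ∧ upp 1 ^ 4 * upp 1 = 1 ∧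
    low 2 ^ 2 = low 4 ∧ low 4 ^ 4 = low 1 ∧ low 4 ^ 2 = low 3 ∧ low 4 ^ 3 * low 3 = 1 := by decide

theorem hexagon : qi * (qi * qi * qi * upp 1) = upp 1 ∧
    qi * qi * qi * upp 1 * (qi * qi * qi * upp 1) * (qi * qi * qi * upp 1) = 1 ∧
    qi * qi * qi * upp 1 ≠ 1 ∧
    upp 1 ^ 4 = qi * qi * qi * upp 1 * (qi * qi * qi * upp 1) * (qi * qi * qi) ∧
    low 2 ^ 4 = low 4 ^ 2 ∧ low 4 ^ 5 = 1 ∧ low 4 ≠ 1 := by decide

end Cfsg.Agent.H2.Amitsur
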