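import Mathlib

/-!
# `-1` is a sum of two squares in fields containing `√5` and a primitive `r`-th root of unity

For an odd prime `r ≥ 7`: pick a prime `q ≡ 3 (mod 20)` that is a nonsquare mod `r`. Gauss sums
write `(1 - x^q)/(1 - x)` as `u² + q v²`; telescoping gives `-1 = Y² + q Z²`; and `q` is a sum of
two squares in `ℚ(√5)` because `2q = x² + 5y²`.
-/

namespace Cfsg.Agent.H2.Amitsur

open Finset

/-- A small solution of `x ^ 2 + 5 * y ^ 2 ≡ 0` modulo `q`. -/
theorem exists_small_five (q : ℕ) [hq : Fact q.Prime] (h : IsSquare (-5 : ZMod q)) :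
    ∃ x y : ℤ, ∃ k : ℕ, 0 < k ∧ k < 6 ∧ x ^ 2 + 5 * y ^ 2 = k * q := by
  classical
  obtain ⟨c, hc⟩ := h
  set s := Nat.sqrt q
  have hcard : Fintype.card (ZMod q) < Fintype.card (Fin (s + 1) × Fin (s + 1)) := by
    rw [ZMod.card, Fintype.card_prod, Fintype.card_fin, ← pow_two]
    exact Nat.lt_succ_sqrt' q
  obtain ⟨a, b, hab, he⟩ := Fintype.exists_ne_map_eq_of_card_lt
    (fun p : Fin (s + 1) × Fin (s + 1) => (p.1 : ZMod q) - c * (p.2 : ZMod q)) hcard
  set x : ℤ := (a.1 : ℤ) - b.1 with hx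
  set y : ℤ := (a.2 : ℤ) - b.2 with hy
  have hxc : (x : ZMod q) = c * (y : ZMod q) := by
    simp only [hx, hy, Int.cast_sub, Int.cast_natCast]
    linear_combination he
  have hdvd : (q : ℤ) ∣ x ^ 2 + 5 * y ^ 2 := by
    rw [← ZMod.intCast_zmod_eq_zero_iff_dvd]
    push_cast
    rw [hxc]
    linear_combination -(y : ZMod q) ^ 2 * hc
  have hne : x ≠ 0 ∨ y ≠ 0 := by
    by_contra hc'
    push Not at hc'
    refine hab (Prod.ext (Fin.ext ?_) (Fin.ext ?_))
    · have := hc'.1; omega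
    · have := hc'.2; omega
  obtain ⟨k, hk⟩ := hdvd
  have hq0 : (0 : ℤ) < q := by exact_mod_cast hq.out.pos
  have hpos : 0 < x ^ 2 + 5 * y ^ 2 := by rcases hne with h | h <;> positivity
  have hs2 : (s : ℤ) ^ 2 < q := by
    have h1 : s ^ 2 ≤ q := Nat.sqrt_le' q
    have h2 : s ^ 2 ≠ q := fun e => by
      have h : Nat.Prime (s ^ 2) := e.symm ▸ hq.out
      exact Nat.Prime.not_prime_pow le_rfl h
    exact_mod_cast lt_of_le_of_ne h1 h2
  have hx2 : x ^ 2 ≤ (s : ℤ) ^ 2 := by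
    have h1 := a.1.isLt; have h2 := b.1.isLt
    nlinarith
  have hy2 : y ^ 2 ≤ (s : ℤ) ^ 2 := by
    have h1 := a.2.isLt; have h2 := b.2.isLt
    nlinarith
  have hk0 : 0 < k := by nlinarith
  have hk6 : k < 6 := by nlinarith
  exact ⟨x, y, k.toNat, by omega, by omega, by rw [hk, Int.toNat_of_nonneg hk0.le]; ring⟩

theorem three_ne_mul_self : ∀ z : ZMod 5, (3 : ZMod 5) ≠ z * z := by decide

/-- For a prime `q ≡ 3 (mod 20)`, `2q = x ^ 2 + 5 * y ^ 2`. -/
theorem exists_two_mul_eq (q : ℕ) [hq : Fact q.Prime] (h20 : q % 20 = 3) :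
    ∃ x y : ℤ, x ^ 2 + 5 * y ^ 2 = 2 * q := by
  have h5 : q % 5 = 3 := by omega
  have h4 : q % 4 = 3 := by omega
  have hsq : IsSquare (-5 : ZMod q) := by
    haveI : Fact (Nat.Prime 5) := ⟨by norm_num⟩
    have hm1 : ¬ IsSquare (-1 : ZMod q) := fun h => ZMod.exists_sq_eq_neg_one_iff.1 h h4
    have h5' : ¬ IsSquare ((5 : ℕ) : ZMod q) := fun h => by
      have := (ZMod.exists_sq_eq_prime_iff_of_mod_four_eq_one (p := 5) (q := q) (by norm_num)
        (by omega)).2 h
      rw [← ZMod.natCast_mod, h5] at this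
      obtain ⟨z, hz⟩ := this
      exact three_ne_mul_self z (by simpa using hz)
    have hq2 : ringChar (ZMod q) ≠ 2 := by rw [ZMod.ringChar_zmod_n]; omega
    have hne1 : (-1 : ZMod q) ≠ 0 := neg_ne_zero.2 one_ne_zero
    have hne5 : ((5 : ℕ) : ZMod q) ≠ 0 := fun e => by
      have := (Nat.prime_dvd_prime_iff_eq hq.out (by norm_num)).1 ((ZMod.natCast_eq_zero_iff 5 q).1 e)
      omega
    have h1 := quadraticChar_neg_one_iff_not_isSquare (F := ZMod q) (a := -1) |>.2 hm1
    have h2 := quadraticChar_neg_one_iff_not_isSquare (F := ZMod q) (a := ((5 : ℕ) : ZMod q)) |>.2 h5'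
    refine (quadraticChar_one_iff_isSquare (neg_ne_zero.2 (by simpa using hne5))).1 ?_
    rw [show (-5 : ZMod q) = -1 * ((5 : ℕ) : ZMod q) by push_cast; ring, map_mul, h1, h2]
    norm_num
  obtain ⟨x, y, k, hk0, hk6, he⟩ := exists_small_five q hsq
  have hm4 : ∀ z : ℤ, z ^ 2 % 4 = 0 ∧ z % 2 = 0 ∨ z ^ 2 % 4 = 1 ∧ z % 2 = 1 := fun z => by
    rcases Int.emod_two_eq_zero_or_one z with h | h
    · left
      obtain ⟨w, rfl⟩ : ∃ w, z = 2 * w := ⟨z / 2, by omega⟩
      exact ⟨by ring_nf; omega, h⟩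
    · right
      obtain ⟨w, rfl⟩ : ∃ w, z = 2 * w + 1 := ⟨z / 2, by omega⟩
      exact ⟨by ring_nf; omega, h⟩
  have hno : ∀ a b : ℤ, a ^ 2 + 5 * b ^ 2 ≠ (q : ℤ) := fun a b => by
    rcases hm4 a with h | h <;> rcases hm4 b with h' | h' <;> omega
  interval_cases k
  · exact absurd (by simpa using he) (hno x y)
  · exact ⟨x, y, by simpa using he⟩
  · -- compose with `6 = 1 + 5`
    have h3 : (x - y) % 3 = 0 ∨ (x + y) % 3 = 0 := by
      have : (x ^ 2 - y ^ 2) % 3 = 0 := by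
        have : x ^ 2 - y ^ 2 = 3 * ((q : ℤ) - 2 * y ^ 2) := by push_cast at he; linarith
        rw [this]; exact Int.mul_emod_right _ _
      have h : (x - y) * (x + y) % 3 = 0 := by rw [show (x - y) * (x + y) = x ^ 2 - y ^ 2 by ring]
                                               exact this
      rcases Int.prime_three.dvd_mul.1 (Int.dvd_of_emod_eq_zero h) with h | h
      · exact Or.inl (Int.emod_eq_zero_of_dvd h)
      · exact Or.inr (Int.emod_eq_zero_of_dvd h)
    rcases h3 with h | h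
    · obtain ⟨d, hd⟩ := Int.dvd_of_emod_eq_zero h
      refine ⟨d + 2 * y, d, ?_⟩
      have hx : x = y + 3 * d := by linarith
      subst hx
      push_cast at he
      linarith [show 3 * ((d + 2 * y) ^ 2 + 5 * d ^ 2) = 2 * ((y + 3 * d) ^ 2 + 5 * y ^ 2) by ring]
    · obtain ⟨d, hd⟩ := Int.dvd_of_emod_eq_zero h
      refine ⟨d - 2 * y, d, ?_⟩
      have hx : x = 3 * d - y := by linarith
      subst hx
      push_cast at he
      linarith [show 3 * ((d - 2 * y) ^ 2 + 5 * d ^ 2) = 2 * ((3 * d - y) ^ 2 + 5 * y ^ 2) by ring]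
  · -- both even
    rcases hm4 x with h | h <;> rcases hm4 y with h' | h'
    · obtain ⟨a, rfl⟩ : ∃ a, x = 2 * a := ⟨x / 2, by omega⟩
      obtain ⟨b, rfl⟩ : ∃ b, y = 2 * b := ⟨y / 2, by omega⟩
      push_cast at he
      exact absurd (by linarith [show (2 * a) ^ 2 + 5 * (2 * b) ^ 2 = 4 * (a ^ 2 + 5 * b ^ 2) by ring])
        (hno a b)
    all_goals (push_cast at he; omega)
  · -- divisible by five
    have h5x : (5 : ℤ) ∣ x := by
      refine (Int.Prime.dvd_pow' (p := 5) (by norm_num) (k := 2) ?_)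
      exact ⟨(q : ℤ) - y ^ 2, by push_cast at he ⊢; linarith⟩
    obtain ⟨a, rfl⟩ := h5x
    push_cast at he
    exact absurd (by linarith [show (5 * a) ^ 2 + 5 * y ^ 2 = 5 * (y ^ 2 + 5 * a ^ 2) by ring])
      (hno y a)

variable {F : Type*} [Field F] [CharZero F]

/-- With a square root of five, such a prime is a sum of two squares. -/
theorem exists_sum_two_sq {s : F} (hs : s ^ 2 = 5) (q : ℕ) [Fact q.Prime] (h20 : q % 20 = 3) :
    ∃ a b : F, a ^ 2 + b ^ 2 = q := by
  obtain ⟨x, y, h⟩ := exists_two_mul_eq q h20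
  refine ⟨((x : F) + s * y) / 2, ((x : F) - s * y) / 2, ?_⟩
  have h' : (x : F) ^ 2 + 5 * (y : F) ^ 2 = 2 * (q : F) := by exact_mod_cast congrArg (Int.cast : ℤ → F) h
  field_simp
  linear_combination (2 : F) * h' + 2 * (y : F) ^ 2 * hs

/-- `(1 - x^q)/(1 - x)` is a value of the form `u² + q v²`. -/
theorem exists_norm_form (q : ℕ) [hq : Fact q.Prime] (h4 : q % 4 = 3) {x : F} (hx : x ≠ 1) :
    ∃ u v : F, u ^ 2 + (q : F) * v ^ 2 = (1 - x ^ q) / (1 - x) := by
  classical
  haveI : NeZero (q : F) := ⟨Nat.cast_ne_zero.2 hq.out.ne_zero⟩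
  let L := CyclotomicField q F
  haveI : IsGalois F L := IsCyclotomicExtension.isGalois {q} F L
  haveI : FiniteDimensional F L := IsCyclotomicExtension.finiteDimensional {q} F L
  haveI : CharZero L := charZero_of_injective_algebraMap (algebraMap F L).injective
  set γ := IsCyclotomicExtension.zeta q F L
  have hγ : IsPrimitiveRoot γ q := IsCyclotomicExtension.zeta_spec q F L
  set ψ := AddChar.zmodChar q hγ.pow_eq_one
  have hq2 : ringChar (ZMod q) ≠ 2 := by rw [ZMod.ringChar_zmod_n]; omega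
  set χ₀ := quadraticChar (ZMod q)
  set χ := χ₀.ringHomComp (Int.castRingHom L)
  set g := gaussSum χ ψ
  have hcast : Function.Injective (Int.castRingHom L) := Int.cast_injective
  have hχ1 : χ ≠ 1 := (MulChar.ringHomComp_ne_one_iff hcast).2 (quadraticChar_ne_one hq2)
  have hg2 : g ^ 2 = -(q : L) := by
    rw [gaussSum_sq hχ1 ((quadraticChar_isQuadratic _).comp _)
      (AddChar.zmodChar_primitive_of_primitive_root q hγ), ZMod.card]
    have : χ (-1) = -1 := by
      show (Int.castRingHom L) (χ₀ (-1)) = -1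
      rw [quadraticChar_neg_one hq2, ZMod.card, ZMod.χ₄_nat_three_mod_four h4]
      simp
    rw [this]; ring
  have hg0 : g ≠ 0 := fun e => by simp [e, hq.out.ne_zero] at hg2
  -- the two half products
  set xL := algebraMap F L x
  let M : ℤ → L := fun e => ∏ a ∈ univ.filter (fun a => χ₀ a = e), (1 - xL * ψ a)
  have hprod : M 1 * M (-1) * (1 - xL) = 1 - xL ^ q := by
    have h1 := IsPrimitiveRoot.pow_sub_pow_eq_prod_sub_mul (1 : L) xL hq.out.pos hγ
    rw [one_pow] at h1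
    rw [h1]
    have hb : ∏ ζ ∈ Polynomial.nthRootsFinset q (1 : L), (1 - ζ * xL)
        = ∏ a : ZMod q, (1 - xL * ψ a) := by
      refine (Finset.prod_bij (fun a _ => ψ a) (fun a _ => ?_) (fun a _ b _ e => ?_)
        (fun ζ hζ => ?_) (fun a _ => by rw [mul_comm])).symm
      · rw [Polynomial.mem_nthRootsFinset hq.out.pos, AddChar.zmodChar_apply, ← pow_mul,
          mul_comm, pow_mul, hγ.pow_eq_one, one_pow]
      · simp only [ψ, AddChar.zmodChar_apply] at e
        exact ZMod.val_injective q (hγ.pow_inj a.val_lt b.val_lt e)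
      · rw [Polynomial.mem_nthRootsFinset hq.out.pos] at hζ
        obtain ⟨i, hi, rfl⟩ := hγ.eq_pow_of_pow_eq_one hζ
        exact ⟨(i : ZMod q), mem_univ _, by
          show ψ (i : ZMod q) = γ ^ i
          rw [AddChar.zmodChar_apply, ZMod.val_natCast_of_lt hi]⟩
    rw [hb, ← Finset.mul_prod_erase univ _ (mem_univ (0 : ZMod q)), AddChar.map_zero_eq_one,
      mul_one, mul_comm (1 - xL)]
    congr 1
    rw [← prod_union (disjoint_filter.2 fun a _ h h' => by rw [h] at h'; norm_num at h')]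
    refine prod_congr (Finset.ext fun a => ?_) fun _ _ => rfl
    simp only [mem_union, mem_filter, mem_univ, true_and, mem_erase, and_true]
    constructor
    · rintro (h | h) rfl <;> rw [MulChar.map_zero] at h <;> omega
    · exact fun ha => quadraticChar_dichotomy ha
  -- every automorphism permutes the factors
  have hσ : ∀ σ : L ≃ₐ[F] L, ∃ c : (ZMod q)ˣ, (∀ a, σ (ψ a) = ψ ((c : ZMod q) * a)) := fun σ => by
    refine ⟨hγ.autToPow F σ, fun a => ?_⟩
    have h1 : σ γ = ψ (hγ.autToPow F σ : ZMod q) := by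
      rw [AddChar.zmodChar_apply]; exact (hγ.autToPow_spec F σ).symm
    have h2 : ψ a = γ ^ a.val := AddChar.zmodChar_apply _ a
    rw [h2, map_pow, h1, ← AddChar.map_nsmul_eq_pow, nsmul_eq_mul, ZMod.natCast_zmod_val, mul_comm]
  have hM : ∀ (σ : L ≃ₐ[F] L) (c : (ZMod q)ˣ), (∀ a, σ (ψ a) = ψ ((c : ZMod q) * a)) →
      ∀ e : ℤ, σ (M e) = M (χ₀ c * e) := fun σ c hc e => by
    simp only [M, map_prod, map_sub, map_one, map_mul, xL, σ.commutes, hc]
    have hc1 : χ₀ c * χ₀ c = 1 := by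
      rw [← map_mul, ← sq]; exact quadraticChar_sq_one' c.ne_zero
    refine prod_bij' (fun a _ => (c : ZMod q) * a) (fun a _ => (↑c⁻¹ : ZMod q) * a)
      (fun a ha => ?_) (fun a ha => ?_) (fun a _ => Units.inv_mul_cancel_left c a)
      (fun a _ => Units.mul_inv_cancel_left c a) (fun a _ => rfl)
    · simp only [mem_filter, mem_univ, true_and] at ha ⊢
      rw [map_mul, ha]
    · simp only [mem_filter, mem_univ, true_and] at ha ⊢
      have : χ₀ c * χ₀ ((↑c⁻¹ : ZMod q) * a) = χ₀ c * e := by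
        rw [← map_mul, Units.mul_inv_cancel_left, ha]
      calc χ₀ ((↑c⁻¹ : ZMod q) * a) = χ₀ c * χ₀ c * χ₀ ((↑c⁻¹ : ZMod q) * a) := by rw [hc1, one_mul]
        _ = _ := by rw [mul_assoc, this, ← mul_assoc, hc1, one_mul]
  have hgσ : ∀ (σ : L ≃ₐ[F] L) (c : (ZMod q)ˣ), (∀ a, σ (ψ a) = ψ ((c : ZMod q) * a)) →
      (χ₀ c : L) * σ g = g := fun σ c hc => by
    have : σ g = gaussSum χ (AddChar.mulShift ψ c) := by
      simp only [g, gaussSum, map_sum, map_mul, AddChar.mulShift_apply, hc]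
      refine sum_congr rfl fun a _ => ?_
      congr 1
      show σ ((χ₀ a : ℤ) : L) = _
      rw [map_intCast]; rfl
    rw [this]
    exact gaussSum_mulShift χ ψ c
  -- descend
  have hfix : ∀ σ : L ≃ₐ[F] L, σ (M 1 + M (-1)) = M 1 + M (-1) ∧
      σ ((M 1 - M (-1)) / g) = (M 1 - M (-1)) / g := fun σ => by
    obtain ⟨c, hc⟩ := hσ σ
    have h1 := hM σ c hc
    have h2 := hgσ σ c hc
    rw [map_add, map_div₀, map_sub, h1, h1]
    rcases quadraticChar_dichotomy (c.ne_zero : (c : ZMod q) ≠ 0) with h | h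
    · rw [h] at h2 ⊢
      simp only [one_mul, Int.cast_one] at h2 ⊢
      exact ⟨trivial, by rw [h2]⟩
    · rw [h] at h2 ⊢
      simp only [Int.cast_neg, Int.cast_one, neg_mul, one_mul, neg_neg] at h2 ⊢
      refine ⟨add_comm _ _, ?_⟩
      rw [show σ g = -g by linear_combination -h2, div_neg, ← neg_div, neg_sub]
  obtain ⟨u, hu⟩ := (IsGalois.mem_range_algebraMap_iff_fixed _).2 fun σ => (hfix σ).1
  obtain ⟨v, hv⟩ := (IsGalois.mem_range_algebraMap_iff_fixed _).2 fun σ => (hfix σ).2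
  refine ⟨u / 2, v / 2, (algebraMap F L).injective ?_⟩
  have hx1 : 1 - xL ≠ 0 := sub_ne_zero.2 fun e => hx ((algebraMap F L).injective
    (e.symm.trans (map_one _).symm))
  simp only [map_add, map_mul, map_pow, map_div₀, map_natCast, map_ofNat, map_sub, map_one, hu, hv]
  rw [eq_div_iff hx1, ← hprod]
  congr 1
  have hq0 : (q : L) ≠ 0 := Nat.cast_ne_zero.2 hq.out.ne_zero
  rw [show (q : L) = -g ^ 2 by rw [hg2]; ring]
  generalize M 1 = A, M (-1) = B
  have key : g * ((A - B) / g / 2) = (A - B) / 2 := by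
    rw [← mul_div_assoc, mul_div_cancel₀ _ hg0]
  linear_combination -(g * ((A - B) / g / 2) + (A - B) / 2) * key

/-- `-1` is a sum of two squares once `√5` and an `r`-th root of unity are present, `r ≥ 7` prime. -/
theorem neg_one_eq_sum_two_sq {s : F} (hs : s ^ 2 = 5) {r : ℕ} [hr : Fact r.Prime] (h7 : 7 ≤ r)
    {ζ : F} (hζ : IsPrimitiveRoot ζ r) : ∃ a b : F, a ^ 2 + b ^ 2 = -1 := by
  classical
  have hr2 : ringChar (ZMod r) ≠ 2 := by rw [ZMod.ringChar_zmod_n]; omega
  obtain ⟨n, hn⟩ := FiniteField.exists_nonsquare (F := ZMod r) hr2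
  have hn0 : n ≠ 0 := fun e => hn (e ▸ IsSquare.zero)
  have hco : Nat.Coprime 20 r := by
    refine Nat.Coprime.symm ((hr.out.coprime_iff_not_dvd).2 fun h => ?_)
    have := Nat.le_of_dvd (by norm_num) h
    interval_cases r <;> first | omega | exact absurd hr.out (by norm_num)
  obtain ⟨c, hc1, hc2⟩ := Nat.chineseRemainder hco 3 n.val
  have hcc : c.Coprime (20 * r) := by
    refine Nat.Coprime.mul_right ?_ (Nat.Coprime.symm ((hr.out.coprime_iff_not_dvd).2 fun h => ?_))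
    · rw [Nat.Coprime, Nat.gcd_comm, Nat.gcd_rec, hc1]; rfl
    · refine hn0 ?_
      have := (ZMod.natCast_eq_natCast_iff c n.val r).2 hc2
      rw [ZMod.natCast_zmod_val, (ZMod.natCast_eq_zero_iff c r).2 h] at this
      exact this.symm
  obtain ⟨q, -, hqp, hq⟩ := Nat.forall_exists_prime_gt_and_modEq 0
    (Nat.mul_ne_zero (by norm_num) hr.out.ne_zero) hcc
  haveI : Fact q.Prime := ⟨hqp⟩
  have h20 : q % 20 = 3 := by
    have := (Nat.ModEq.of_mul_right r hq).trans hc1
    exact this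
  have hqr : (q : ZMod r) = n := by
    rw [(ZMod.natCast_eq_natCast_iff q c r).2 (Nat.ModEq.of_mul_left 20 hq),
      (ZMod.natCast_eq_natCast_iff c n.val r).2 hc2, ZMod.natCast_zmod_val]
  have hpow : (q : ZMod r) ^ (r / 2) = -1 := by
    rcases ZMod.pow_div_two_eq_neg_one_or_one r (a := n) hn0 with h | h
    · exact absurd ((ZMod.euler_criterion r hn0).2 h) hn
    · rw [hqr, h]
  have hdvd : r ∣ q ^ (r / 2) + 1 := by
    rw [← ZMod.natCast_eq_zero_iff]
    push_cast
    rw [hpow]; ring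
  have hqn : ¬ r ∣ q := fun h => hn0 (by rw [← hqr]; exact (ZMod.natCast_eq_zero_iff q r).2 h)
  have hζ1 : ∀ m : ℕ, ζ ^ q ^ m ≠ 1 := fun m h =>
    hqn (hr.out.dvd_of_dvd_pow ((hζ.pow_eq_one_iff_dvd _).1 h))
  have hstep : ∀ m : ℕ, ∃ u v : F, u ^ 2 + (q : F) * v ^ 2 = (1 - ζ ^ q ^ m) / (1 - ζ) := by
    intro m
    induction m with
    | zero =>
      refine ⟨1, 0, ?_⟩
      rw [pow_zero, pow_one, div_self (sub_ne_zero.2 (hζ.ne_one hr.out.one_lt).symm)]; ring
    | succ m ih =>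
      obtain ⟨u, v, h⟩ := ih
      obtain ⟨u', v', h'⟩ := exists_norm_form q (by omega) (hζ1 m)
      refine ⟨u * u' - (q : F) * v * v', u * v' + v * u', ?_⟩
      calc _ = (u ^ 2 + (q : F) * v ^ 2) * (u' ^ 2 + (q : F) * v' ^ 2) := by ring
        _ = _ := by
          rw [h, h', ← pow_mul, ← pow_succ]
          field_simp [sub_ne_zero.2 (hζ1 m).symm]
  obtain ⟨u, v, h⟩ := hstep (r / 2)
  have hinv : ζ ^ q ^ (r / 2) * ζ = 1 := by
    rw [← pow_succ]; exact (hζ.pow_eq_one_iff_dvd _).2 hdvd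
  set w := ζ ^ ((r + 1) / 2)
  have hw : w ^ 2 = ζ := by
    have hodd := hr.out.odd_of_ne_two (by omega)
    rw [← pow_mul, show (r + 1) / 2 * 2 = r + 1 by obtain ⟨k, hk⟩ := hodd; omega, pow_succ,
      hζ.pow_eq_one, one_mul]
  have h1 : (u * w) ^ 2 + (q : F) * (v * w) ^ 2 = -1 := by
    rw [mul_pow, mul_pow, hw, ← mul_assoc, ← add_mul, h]
    have hne : (1 : F) - ζ ≠ 0 := sub_ne_zero.2 (hζ.ne_one hr.out.one_lt).symm
    field_simp
    linear_combination -hinv
  obtain ⟨a, b, hab⟩ := exists_sum_two_sq hs q h20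
  set Y := u * w
  set A := a * (v * w)
  set B := b * (v * w)
  have h3 : A ^ 2 + B ^ 2 = -(1 + Y ^ 2) := by
    linear_combination h1 + (v * w) ^ 2 * hab
  by_cases hY : 1 + Y ^ 2 = 0
  · exact ⟨Y, 0, by linear_combination hY⟩
  · refine ⟨(A - B * Y) / (1 + Y ^ 2), (A * Y + B) / (1 + Y ^ 2), ?_⟩
    field_simp
    linear_combination (1 + Y ^ 2) * h3

end Cfsg.Agent.H2.Amitsur
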