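import Mathlib
import Cfsg.Agent.H2.Amitsur.SumSquares
import Cfsg.Agent.H2.Amitsur.SL25

/-!
# `SL(2, 5)` inside the multiplicative group of a division ring

It has no proper finite extension there: neither by a central element of prime order at least
seven nor of index two.
-/

namespace Cfsg.Agent.H2.Amitsur

variable {D : Type*} [DivisionRing D]

/-- A finite set closed under multiplication spans a finite field in positive characteristic. -/
theorem commute_of_charP (p : ℕ) [Fact p.Prime] [CharP D p] (S : Submonoid D)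
    (hS : (S : Set D).Finite) {a b : D} (ha : a ∈ S) (hb : b ∈ S) : a * b = b * a := by
  letI := ZMod.algebra D p
  let A := Algebra.adjoin (ZMod p) (S : Set D)
  have hfg : Module.Finite (ZMod p) A := by
    rw [← Module.Finite.equiv_iff (Subalgebra.toSubmoduleEquiv A)]
    rw [Module.Finite.iff_fg, Algebra.adjoin_eq_span, Submonoid.closure_eq]
    exact Submodule.fg_span hS
  haveI : Finite A := Module.finite_of_finite (ZMod p)
  haveI : Nontrivial A := inferInstance
  haveI : IsDomain A := NoZeroDivisors.to_isDomain A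
  have hf := Finite.isDomain_to_isField A
  exact congrArg Subtype.val
    (hf.mul_comm ⟨a, Algebra.subset_adjoin ha⟩ ⟨b, Algebra.subset_adjoin hb⟩)

/-- A quaternion pair does not commute with a solution of `a ^ 2 + b ^ 2 = -1`. -/
theorem no_quaternion_sum [CharZero D] {i j a b : D} (hi : i * i = -1) (hj : j * j = -1)
    (hij : i * j = -(j * i)) (hab : Commute a b) (hai : Commute a i) (haj : Commute a j)
    (hbi : Commute b i) (hbj : Commute b j) (h : a * a + b * b = -1) : False := by
  have hji : j * i = -(i * j) := by rw [hij, neg_neg]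
  have hij0 : i * j ≠ 0 := mul_ne_zero (fun e => by simp [e] at hi) (fun e => by simp [e] at hj)
  set w := a * i + b * j with hw
  have hw2 : w * w = 1 := by
    have h1 : a * i * (a * i) = -(a * a) := by
      rw [hai.symm.mul_mul_mul_comm, hi, mul_neg, mul_one]
    have h2 : b * j * (b * j) = -(b * b) := by
      rw [hbj.symm.mul_mul_mul_comm, hj, mul_neg, mul_one]
    have h3 : a * i * (b * j) = a * b * (i * j) := hbi.symm.mul_mul_mul_comm _ _
    have h4 : b * j * (a * i) = -(a * b * (i * j)) := by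
      rw [haj.symm.mul_mul_mul_comm, ← hab.eq, hji, mul_neg]
    rw [hw, mul_add, add_mul, add_mul, h1, h2, h3, h4]
    rw [show -(a * a) + -(a * b * (i * j)) + (a * b * (i * j) + -(b * b)) = -(a * a + b * b) by abel,
      h, neg_neg]
  have hcen : ∀ z, Commute w z := by
    intro z
    rcases mul_self_eq_one_iff.1 hw2 with e | e <;> rw [e]
    · exact Commute.one_left z
    · exact (Commute.one_left z).neg_left
  have e1 : b * (i * j) = 0 := by
    have := (hcen i).eq
    rw [hw, add_mul, mul_add, mul_assoc, mul_assoc, hji, mul_neg, ← mul_assoc i a,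
      ← hai.eq, mul_assoc a, ← mul_assoc i b, ← hbi.eq, mul_assoc b] at this
    rw [add_right_inj] at this
    exact CharZero.neg_eq_self_iff.1 this
  have hb0 : b = 0 := (mul_eq_zero.1 e1).resolve_right hij0
  have e2 : a * (i * j) = 0 := by
    have := (hcen j).eq
    rw [hw, hb0, zero_mul, add_zero, mul_assoc, ← mul_assoc j a, ← haj.eq, mul_assoc a, hji,
      mul_neg] at this
    exact CharZero.neg_eq_self_iff.1 this.symm
  have ha0 : a = 0 := (mul_eq_zero.1 e2).resolve_right hij0
  simp [ha0, hb0] at h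

variable (φ : SL25 →* D) (hφ : Function.Injective φ)
include hφ

theorem map_neg_one_sl : φ (-1) = -1 := by
  have h : φ (-1) * φ (-1) = 1 := by rw [← map_mul, neg_one_mul_self, map_one]
  exact (mul_self_eq_one_iff.1 h).resolve_left
    fun e => neg_one_ne_one (hφ (e.trans (map_one φ).symm))

theorem quaternion_pair :
    φ qi * φ qi = -1 ∧ φ qj * φ qj = -1 ∧ φ qi * φ qj = -(φ qj * φ qi) := by
  have h := map_neg_one_sl φ hφ
  refine ⟨?_, ?_, ?_⟩
  · rw [← map_mul, qi_sq, h]
  · rw [← map_mul, qj_sq, h]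
  · rw [← map_mul, qi_qj, map_mul, map_mul, h, neg_one_mul]

/-- The fifth cyclotomic relation. -/
theorem cyclotomic_five {x : SL25} (h5 : x ^ 5 = 1) (h1 : x ≠ 1) :
    1 + φ x + φ x ^ 2 + φ x ^ 3 + φ x ^ 4 = 0 := by
  have hx : φ x - 1 ≠ 0 := sub_ne_zero.2 fun e => h1 (hφ (e.trans (map_one φ).symm))
  refine (mul_eq_zero.1 ?_).resolve_left hx
  have h : φ x ^ 5 = 1 := by rw [← map_pow, h5, map_one]
  calc (φ x - 1) * (1 + φ x + φ x ^ 2 + φ x ^ 3 + φ x ^ 4) = φ x ^ 5 - 1 := by noncomm_ring
    _ = 0 := by rw [h, sub_self]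

omit hφ in
/-- Commuting with two generators suffices. -/
theorem commute_all {k : D} (hu : Commute k (φ (upp 1))) (hl : Commute k (φ (low 4))) (x : SL25) :
    Commute k (φ x) := by
  obtain ⟨a, b, g, f, rfl⟩ := exists_factor x
  rw [map_mul, map_mul, map_mul, upp_pow a, upp_pow g, low_pow b, low_pow f, map_pow, map_pow,
    map_pow, map_pow]
  exact (hl.pow_right _).mul_right (((hu.pow_right _).mul_right (hl.pow_right _)).mul_right
    (hu.pow_right _))

theorem commute_trace (x : SL25) : Commute (φ (upp 1) + φ (upp 1) ^ 4) (φ x) := by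
  set a := φ qi with ha
  set X := φ (upp 1) with hX
  set Z := φ (low 4) with hZ
  have hwz : a * X = Z * a := by rw [ha, hX, hZ, ← map_mul, ← map_mul, qi_mul_upp.1]
  obtain ⟨f1, f2, f3, f4, -, -, -⟩ := hexagon
  set b := φ (qi * qi * qi * upp 1) with hb
  have haa : a * a = -1 := (quaternion_pair φ hφ).1
  have hab : a * b = X := by rw [hb, hX, ha, ← map_mul, f1]
  have hbb : b * b * b = 1 := by rw [hb, ← map_mul, ← map_mul, f2, map_one]
  have hb1 : b - 1 ≠ 0 := sub_ne_zero.2 fun e => f3 (hφ (e.trans (map_one φ).symm))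
  have hb2 : b * b = -1 - b := by
    have : (b - 1) * (b * b + b + 1) = 0 := by
      rw [← sub_eq_zero_of_eq hbb]; noncomm_ring
    exact eq_sub_of_add_eq (eq_neg_of_add_eq_zero_left ((mul_eq_zero.1 this).resolve_left hb1))
  have hX4 : X ^ 4 = b * a + a := by
    have e : X ^ 4 = b * b * (a * a * a) := by
      rw [hX, hb, ha, ← map_pow, f4]
      simp only [map_mul]
    rw [e, haa, hb2]; noncomm_ring
  set t := X + X ^ 4 with ht
  have htform : t = a * b + a + b * a := by rw [ht, hX4, ← hab]; abel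
  have hta : Commute t a := by
    show t * a = a * t
    calc t * a = a * b * a + a * a + b * (a * a) := by rw [htform]; noncomm_ring
      _ = a * b * a + (-1 - b) := by rw [haa]; noncomm_ring
      _ = a * a * b + a * a + a * b * a := by rw [haa]; noncomm_ring
      _ = a * t := by rw [htform]; noncomm_ring
  have htb : Commute t b := by
    show t * b = b * t
    calc t * b = a * (b * b) + a * b + b * a * b := by rw [htform]; noncomm_ring
      _ = b * a * b - a := by rw [hb2]; noncomm_ring
      _ = b * a * b + b * a + b * b * a := by rw [hb2]; noncomm_ring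
      _ = b * t := by rw [htform]; noncomm_ring
  have htX : Commute t X := hab ▸ hta.mul_right htb
  refine commute_all φ htX ?_ x
  show Commute t Z
  have h1 : Commute t (a * X) := hta.mul_right htX
  rw [hwz] at h1
  have hw0 : a ≠ 0 := fun e => by simp [e] at haa
  have h2 := hta.eq
  have h1' := h1.eq
  rw [← mul_assoc, mul_assoc Z, ← h2, ← mul_assoc] at h1'
  exact mul_right_cancel₀ hw0 h1'

theorem sqrt_five :
    (2 * (φ (upp 1) + φ (upp 1) ^ 4) + 1) * (2 * (φ (upp 1) + φ (upp 1) ^ 4) + 1) = 5 := by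
  have h := cyclotomic_five φ hφ upp_one_pow_five upp_one_ne_one
  have h5 : φ (upp 1) ^ 5 = 1 := by rw [← map_pow, upp_one_pow_five, map_one]
  generalize φ (upp 1) = X at h h5
  have h8 : X ^ 8 = X ^ 3 := by rw [show 8 = 5 + 3 from rfl, pow_add, h5, one_mul]
  calc (2 * (X + X ^ 4) + 1) * (2 * (X + X ^ 4) + 1)
      = 4 * (X ^ 2 + X ^ 5 + X ^ 5 + X ^ 8 + X + X ^ 4) + 1 := by noncomm_ring
    _ = 4 * (X ^ 2 + 1 + 1 + X ^ 3 + X + X ^ 4) + 1 := by rw [h5, h8]
    _ = 4 * (1 + X + X ^ 2 + X ^ 3 + X ^ 4) + (4 * 1 + 1) := by noncomm_ring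
    _ = 5 := by rw [h, mul_zero, zero_add]; norm_num

theorem commute_sqrt_five (x : SL25) :
    Commute (2 * (φ (upp 1) + φ (upp 1) ^ 4) + 1) (φ x) :=
  ((Nat.cast_commute 2 _).mul_left (commute_trace φ hφ x)).add_left (Commute.one_left _)

/-- No central element of prime order at least seven. -/
theorem no_central [CharZero D] {x : D} {r : ℕ} [Fact r.Prime] (h7 : 7 ≤ r)
    (hr : orderOf x = r) (hx : ∀ y, Commute x (φ y)) : False := by
  set s := 2 * (φ (upp 1) + φ (upp 1) ^ 4) + 1 with hsdef
  have hs5 : s * s = 5 := sqrt_five φ hφ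
  have hsx : Commute s x := ((Nat.cast_commute 2 x).mul_left
    ((hx _).symm.add_left ((hx _).symm.pow_left 4))).add_left (Commute.one_left x)
  let P : Set D := {s, x}
  let T : Subring D := Subring.centralizer (Set.centralizer P)
  have hP : P ⊆ Set.centralizer P := by
    rintro y hy z hz
    rcases hy with rfl | rfl <;> rcases hz with rfl | rfl
    exacts [rfl, hsx.eq.symm, hsx.eq, rfl]
  have hsT : s ∈ T := fun z hz => (hz s (Or.inl rfl)).symm
  have hxT : x ∈ T := fun z hz => (hz x (Or.inr rfl)).symm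
  have hTsub : ∀ y ∈ T, y ∈ Set.centralizer P := fun y hy z hz => hy z (hP hz)
  have hcomm : ∀ y z : T, y * z = z * y := fun y z => Subtype.ext (z.2 y.1 (hTsub _ y.2))
  have hField : IsField T := by
    refine ⟨⟨0, 1, zero_ne_one⟩, hcomm, fun {a} ha => ?_⟩
    have ha0 : (a : D) ≠ 0 := fun e => ha (Subtype.ext e)
    exact ⟨⟨(a : D)⁻¹, Set.inv_mem_centralizer₀ a.2⟩, Subtype.ext (mul_inv_cancel₀ ha0)⟩
  letI := hField.toField
  haveI : CharZero T := ⟨fun m n e => by simpa using congrArg (Subtype.val : T → D) e⟩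
  have hr' : IsPrimitiveRoot (⟨x, hxT⟩ : T) r := by
    rw [← hr]
    show IsPrimitiveRoot _ (orderOf (T.subtype.toMonoidHom ⟨x, hxT⟩))
    rw [orderOf_injective T.subtype.toMonoidHom Subtype.val_injective]
    exact IsPrimitiveRoot.orderOf _
  obtain ⟨a, b, hab⟩ := neg_one_eq_sum_two_sq (F := T) (s := ⟨s, hsT⟩)
    (by rw [sq]; exact Subtype.ext hs5) h7 hr'
  have hmem : ∀ y, φ y ∈ Set.centralizer P := by
    rintro y z (rfl | rfl)
    · exact (commute_sqrt_five φ hφ y).eq
    · exact (hx y).eq
  obtain ⟨hi, hj, hij⟩ := quaternion_pair φ hφ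
  refine no_quaternion_sum hi hj hij (congrArg Subtype.val (hcomm a b))
    (a.2 _ (hmem _)).symm (a.2 _ (hmem _)).symm (b.2 _ (hmem _)).symm (b.2 _ (hmem _)).symm ?_
  have := congrArg (Subtype.val : T → D) hab
  simpa [sq] using this

omit hφ in
/-- Data of an element normalising the image with square in it. -/
structure Outer (h : D) : Prop where
  not_mem : ∀ y, h ≠ φ y
  sq_mem : ∃ y, h * h = φ y
  norm : ∀ x, ∃ y, h * φ x = φ y * h

omit hφ in
theorem Outer.ne_zero {h : D} (H : Outer φ h) : h ≠ 0 := by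
  obtain ⟨y, hy⟩ := H.sq_mem
  rintro rfl
  have := congrArg (· * φ y⁻¹) hy
  simp only [zero_mul, ← map_mul, mul_inv_cancel, map_one] at this
  exact zero_ne_one this

omit hφ in
theorem Outer.mul_left {h : D} (H : Outer φ h) (g : SL25) : Outer φ (φ g * h) := by
  obtain ⟨g', hg'⟩ := H.norm g
  obtain ⟨y, hy⟩ := H.sq_mem
  refine ⟨fun z e => H.not_mem (g⁻¹ * z) ?_, ⟨g * g' * y, ?_⟩, fun x => ?_⟩
  · rw [map_mul, ← e, ← mul_assoc, ← map_mul, inv_mul_cancel, map_one, one_mul]
  · rw [mul_assoc, ← mul_assoc h, hg', mul_assoc (φ g'), hy, map_mul, map_mul, mul_assoc]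
  · obtain ⟨x', hx'⟩ := H.norm x
    refine ⟨g * x' * g⁻¹, ?_⟩
    rw [mul_assoc, hx', ← mul_assoc, ← mul_assoc, ← map_mul, ← map_mul, inv_mul_cancel_right]

theorem Outer.unique {h : D} (H : Outer φ h) {x y y' : SL25} (e : h * φ x = φ y * h)
    (e' : h * φ x = φ y' * h) : y = y' :=
  hφ (mul_right_cancel₀ H.ne_zero (e.symm.trans e'))

/-- If such an element commutes with the two generators, its square is `-1`. -/
theorem Outer.sq_eq {h : D} (H : Outer φ h) (hu : Commute (h * h) (φ (upp 1)))
    (hl : Commute (h * h) (φ (low 4))) : h * h = -1 := by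
  obtain ⟨y, hy⟩ := H.sq_mem
  rw [hy] at hu hl
  rcases eq_one_or_neg_one (x := y) (hφ (by rw [map_mul, map_mul]; exact hu.eq))
    (hφ (by rw [map_mul, map_mul]; exact hl.eq)) with rfl | rfl
  · rw [map_one] at hy
    rcases mul_self_eq_one_iff.1 hy with e | e
    · exact absurd (e.trans (map_one φ).symm) (H.not_mem 1)
    · exact absurd (e.trans (map_neg_one_sl φ hφ).symm) (H.not_mem (-1))
  · rw [hy, map_neg_one_sl φ hφ]

omit hφ in
/-- Effect of a left translation. -/
theorem conj_left {a : D} {x y y' g : SL25} (e : a * φ x = φ y * a) (e' : g * y = y' * g) :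
    φ g * a * φ x = φ y' * (φ g * a) := by
  rw [mul_assoc, e, ← mul_assoc, ← mul_assoc, ← map_mul, ← map_mul, e']

/-- The image has no extension of index two. -/
theorem no_outer [CharZero D] {h : D} (H : Outer φ h) : False := by
  obtain ⟨Y, hY⟩ := H.norm (upp 1)
  have hY' : SemiconjBy h (φ (upp 1)) (φ Y) := hY
  have hY5 : Y ^ 5 = 1 := by
    have := hY'.pow_right 5
    rw [← map_pow, ← map_pow, upp_one_pow_five] at this
    exact H.unique φ hφ this.eq (by rw [map_one, one_mul, mul_one])
  have hY1 : Y ≠ 1 := fun e => upp_one_ne_one (hφ (mul_left_cancel₀ H.ne_zero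
    (by rw [hY, e, map_one, one_mul, mul_one])))
  obtain ⟨c, g, hc, hg⟩ := order_five hY5 hY1
  set h1 := φ g⁻¹ * h with hh1
  have H1 : Outer φ h1 := H.mul_left φ g⁻¹
  have h1u : h1 * φ (upp 1) = φ (upp c) * h1 := conj_left φ hY
    (by rw [eq_mul_inv_iff_mul_eq, mul_assoc, ← hg, inv_mul_cancel_left])
  obtain ⟨W, hW⟩ := H1.norm qi
  obtain ⟨V, hV⟩ := H1.norm (low 4)
  have hVW : V * W = W * upp c := H1.unique φ hφ (x := low 4 * qi)
    (by rw [map_mul, ← mul_assoc, hV, mul_assoc, hW, ← mul_assoc, ← map_mul])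
    (by rw [← qi_mul_upp.1, map_mul, ← mul_assoc, hW, mul_assoc, h1u, ← mul_assoc, ← map_mul])
  rw [mul_upp] at hVW
  have hVe := mul_right_cancel hVW
  have hsemi : SemiconjBy h1 (φ (upp 1 * low 4)) (φ (upp c * V)) := by
    rw [map_mul, map_mul]
    exact SemiconjBy.mul_right h1u hV
  have h6 : (upp c * V) ^ 6 = 1 := by
    have := hsemi.pow_right 6
    rw [← map_pow, ← map_pow, upp_mul_low_pow_six.1] at this
    exact H1.unique φ hφ this.eq (by rw [map_one, one_mul, mul_one])
  have hne : upp c * V ≠ 1 := fun e => upp_mul_low_pow_six.2 (hφ (mul_left_cancel₀ H1.ne_zero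
    (by rw [hsemi.eq, e, map_one, one_mul, mul_one])))
  obtain ⟨hi, hj, hij⟩ := quaternion_pair φ hφ
  rw [hVe] at h6 hne
  rcases hc with rfl | rfl
  · obtain ⟨m, hm⟩ := (unip_spec _ _).1 h6 hne
    rw [← hVe] at hm
    have H2 := H1.mul_left φ (upp m)
    have hu : Commute (φ (upp m) * h1) (φ (upp 1)) := conj_left φ h1u (upp_mul_upp _ _)
    have hl : Commute (φ (upp m) * h1) (φ (low 4)) := conj_left φ hV hm
    have hall := commute_all φ hu hl
    have hsq := H2.sq_eq φ hφ (hu.mul_left hu) (hl.mul_left hl)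
    exact no_quaternion_sum hi hj hij (Commute.zero_right _) (hall _) (hall _)
      (Commute.zero_left _) (Commute.zero_left _) (by rw [hsq, mul_zero, add_zero])
  · obtain ⟨m, hm⟩ := (unip_spec _ _).2 h6 hne
    rw [← hVe] at hm
    have H2 := H1.mul_left φ (upp m)
    set h2 := φ (upp m) * h1 with hh2
    have hu : SemiconjBy h2 (φ (upp 1)) (φ (upp 2)) := conj_left φ h1u (upp_mul_upp _ _)
    have hl : SemiconjBy h2 (φ (low 4)) (φ (low 2)) := conj_left φ hV hm
    set k := h2 * φ qi with hk
    obtain ⟨g', hg'⟩ := H2.norm qi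
    have Hk : Outer φ k := by
      rw [hk, hg']
      exact H2.mul_left φ g'
    have hku : SemiconjBy k (φ (upp 1)) (φ (low 2)) :=
      hl.mul_left (by show _ = _; rw [← map_mul, ← map_mul, qi_mul_upp.1])
    have hkl : SemiconjBy k (φ (low 4)) (φ (upp 2)) :=
      hu.mul_left (by show _ = _; rw [← map_mul, ← map_mul, qi_mul_upp.2])
    have hkl2 : SemiconjBy k (φ (low 2)) (φ (upp 1)) := by
      have := hkl.pow_right 3
      rwa [← map_pow, ← map_pow, pow_facts.2.1, pow_facts.2.2.2.1] at this
    have hku2 : SemiconjBy k (φ (upp 2)) (φ (low 4)) := by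
      have := hku.pow_right 2
      rwa [← map_pow, ← map_pow, pow_facts.2.2.2.2.2.1, pow_facts.2.2.2.2.2.2.2.1] at this
    have hkk : k * k = -1 := Hk.sq_eq φ hφ (hkl2.mul_left hku) (hku2.mul_left hkl)
    set t := φ (upp 1) + φ (upp 1) ^ 4 with ht
    set s := 2 * t + 1 with hsdef
    have htl : φ (low 4) + φ (low 4) ^ 4 = t := by
      have e : SemiconjBy (φ qi) (φ (upp 1)) (φ (low 4)) := by
        show _ = _
        rw [← map_mul, ← map_mul, qi_mul_upp.1]
      have e' : SemiconjBy (φ qi) t (φ (low 4) + φ (low 4) ^ 4) := e.add_right (e.pow_right 4)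
      exact mul_right_cancel₀ (fun z => by simp [z] at hi)
        (e'.eq.symm.trans (commute_trace φ hφ qi).eq.symm)
    have hkt : SemiconjBy k t (-1 - t) := by
      have h1 := hku.add_right (hku.pow_right 4)
      have h3 : φ (low 2) + φ (low 2) ^ 4 = -1 - t := by
        obtain ⟨-, -, -, -, f5, f6, f7⟩ := hexagon
        have hc5 := cyclotomic_five φ hφ f6 f7
        rw [← htl, show φ (low 2) ^ 4 = φ (low 4) ^ 2 by rw [← map_pow, ← map_pow, f5],
          show φ (low 2) = φ (low 4) ^ 3 by rw [← map_pow, pow_facts.2.1]]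
        rw [← sub_eq_zero, ← hc5]
        noncomm_ring
      rwa [h3] at h1
    have hks : k * s = -s * k := by
      have h' := hkt.eq
      calc k * s = 2 * (k * t) + k := by rw [hsdef]; noncomm_ring
        _ = 2 * ((-1 - t) * k) + k := by rw [h']
        _ = -s * k := by rw [hsdef]; noncomm_ring
    have hss : s * s = 5 := sqrt_five φ hφ
    have h4 : (s + k) * (s + k) = 2 * 2 := by
      have key : ∀ p q : D, q * p = -p * q → p * p = 5 → q * q = -1 →
          (p + q) * (p + q) = 2 * 2 := fun p q e1 e2 e3 => by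
        rw [add_mul, mul_add, mul_add, e1, e2, e3, neg_mul]
        calc (5 : D) + p * q + (-(p * q) + -1) = 5 - 1 := by abel
          _ = 2 * 2 := by norm_num
      exact key s k hks hss hkk
    have hcomm : Commute (s + k) 2 := (Nat.cast_commute 2 _).symm
    have hks' : Commute k s := by
      rcases (hcomm.mul_self_eq_mul_self_iff).1 h4 with e | e
      · rw [eq_sub_of_add_eq' e]
        exact (Nat.cast_commute 2 s).sub_left (Commute.refl s)
      · rw [eq_sub_of_add_eq' e]
        exact ((Nat.cast_commute 2 s).neg_left).sub_left (Commute.refl s)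
    rw [hks'.eq, neg_mul, CharZero.eq_neg_self_iff, mul_eq_zero] at hks
    rcases hks with e | e
    · simp [e] at hss
    · simp [e] at hkk

end Cfsg.Agent.H2.Amitsur
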